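import Groth.Agent.EqInt.GeomQuotDescent
import Groth.Agent.Blanchard.Main

/-! # Universal categorical quotients are surjective with the invariant functions -/

set_option autoImplicit false
set_option linter.style.haveILetI false
set_option backward.isDefEq.respectTransparency false
universe u
open CategoryTheory MonoidalCategory CartesianMonoidalCategory MonObj GrpObj AlgebraicGeometry Topology

namespace Groth.Agent.GITCat

open Limits

variable {S : Scheme.{u}} {G X Y : Over S} [GrpObj G] {a : AlgGrp.Action G X} {φ : X ⟶ Y}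

theorem isUnivCatQuot_baseChange (h : GIT.IsUnivCatQuot a φ) {X' Y' : Over S} (pr : X' ⟶ X) (φ' : X' ⟶ Y')
    (g : Y' ⟶ Y) (hpb : IsPullback pr φ' φ g) (a' : AlgGrp.Action G X')
    (heq : a'.act ≫ pr = (G ◁ pr) ≫ a.act) (hinv : GIT.IsInvariant a' φ') : GIT.IsUnivCatQuot a' φ' := by
  refine ⟨h.2 pr φ' g trivial hpb a' heq hinv, fun X₂ Y₂ pr₂ φ₂ g₂ _ hp a₂ heq₂ hinv₂ => ?_⟩
  refine h.2 (pr₂ ≫ pr) φ₂ (g₂ ≫ g) trivial (hp.paste_horiz hpb) a₂ ?_ hinv₂
  rw [reassoc_of% heq₂, heq, MonoidalCategory.whiskerLeft_comp_assoc]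

theorem catQuot_pullback (h : GIT.IsUnivCatQuot a φ) {Y' : Over S} (g : Y' ⟶ Y) :
    GIT.IsCatQuot (EqInt.baseChange a φ h.1.1 g) (pullback.snd φ g) :=
  h.2 _ _ g trivial (IsPullback.of_hasPullback φ g) _ (EqInt.baseChange_fst a φ h.1.1 g)
    (EqInt.baseChange_invariant a φ h.1.1 g)

theorem surjective_of_isUnivCatQuot (h : GIT.IsUnivCatQuot a φ) : Function.Surjective φ.left.base := by
  intro y
  by_contra hy
  let Y' : Over S := Over.mk (Y.left.fromSpecResidueField y ≫ Y.hom)
  let g : Y' ⟶ Y := Over.homMk (Y.left.fromSpecResidueField y)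
  let X' := pullback φ g
  have hX : IsEmpty X'.left := ⟨fun x => hy ⟨(pullback.fst φ g).left x, by
    change φ.left _ = y
    rw [← Scheme.Hom.comp_apply, ← Over.comp_left, pullback.condition]
    exact Scheme.fromSpecResidueField_apply y _⟩⟩
  have : IsEmpty (G ⊗ X').left := ⟨fun x => hX.elim ((snd G X').left x)⟩
  let Z : Over S := Over.mk (Scheme.emptyTo S)
  let ψ : X' ⟶ Z := Over.homMk ((isInitialOfIsEmpty (X := X'.left)).to _)
    ((isInitialOfIsEmpty (X := X'.left)).hom_ext _ _)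
  obtain ⟨χ, -, -⟩ := (catQuot_pullback h g).2 Z ψ
    (Over.OverMorphism.ext ((isInitialOfIsEmpty (X := (G ⊗ X').left)).hom_ext _ _))
  exact IsEmpty.false (α := (∅ : Scheme.{u})) (χ.left (IsLocalRing.closedPoint (Y.left.residueField y)))

/-- the product of `S` with the affine line -/
noncomputable def line (S : Scheme.{u}) : Over S :=
  Over.mk (pullback.fst (terminal.from S) (terminal.from (Spec GeomQuot.R0.{u})))

noncomputable def toLine {W : Over S} (χ : W.left ⟶ Spec GeomQuot.R0.{u}) : W ⟶ line S :=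
  Over.homMk (pullback.lift W.hom χ (Subsingleton.elim _ _)) (pullback.lift_fst _ _ _)

theorem toLine_snd {W : Over S} (χ : W.left ⟶ Spec GeomQuot.R0.{u}) :
    (toLine χ).left ≫ pullback.snd _ _ = χ := pullback.lift_snd _ _ _

theorem line_ext {W : Over S} {χ χ' : W ⟶ line S} (h : χ.left ≫ pullback.snd _ _ = χ'.left ≫ pullback.snd _ _) :
    χ = χ' := Over.OverMorphism.ext (pullback.hom_ext (show χ.left ≫ (line S).hom = χ'.left ≫ (line S).hom by
    rw [Over.w χ, Over.w χ']) h)

open GeomQuot in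
theorem sections_of_isUnivCatQuot (h : GIT.IsUnivCatQuot a φ) (U : Y.left.Opens) :
    Function.Injective (φ.left.app U) ∧ Set.range (φ.left.app U) = {f | GIT.IsInvSection a φ U f} := by
  let V := φ.left ⁻¹ᵁ U
  let Y' : Over S := Over.mk (U.ι ≫ Y.hom)
  let g : Y' ⟶ Y := Over.homMk U.ι
  let X' := pullback φ g
  let pr := pullback.fst φ g
  let φ' := pullback.snd φ g
  let a' := EqInt.baseChange a φ h.1.1 g
  have hc : GIT.IsCatQuot a' φ' := catQuot_pullback h g
  have sq : IsPullback pr.left φ'.left φ.left U.ι := (IsPullback.of_hasPullback φ g).map (Over.forget S)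
  let e : X'.left ≅ V.toScheme := sq.isoIsPullback _ _ (isPullback_morphismRestrict φ.left U).flip
  have he₁ : e.hom ≫ V.ι = pr.left := sq.isoIsPullback_hom_fst _ _ _
  have he₂ : e.hom ≫ (φ.left ∣_ U) = φ'.left := sq.isoIsPullback_hom_snd _ _ _
  have happ : ∀ s, (φ.left ∣_ U).appTop (res U s) = res V (φ.left.app U s) := by
    intro s
    have h := res_natural φ.left U V le_rfl s
    rw [Scheme.Hom.resLE_eq_morphismRestrict, ← Scheme.Hom.app_eq_appLE] at h
    exact h
  refine ⟨fun s₁ s₂ hs => ?_, Set.Subset.antisymm ?_ ?_⟩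
  · obtain ⟨χ₁, hχ₁⟩ := ev_surjective (res U s₁)
    obtain ⟨χ₂, hχ₂⟩ := ev_surjective (res U s₂)
    have h' : (φ.left ∣_ U) ≫ χ₁ = (φ.left ∣_ U) ≫ χ₂ :=
      ev_injective (by rw [ev_comp, ev_comp, hχ₁, hχ₂, happ, happ, hs])
    let c₁ : Y' ⟶ line S := toLine χ₁
    let c₂ : Y' ⟶ line S := toLine χ₂
    have hh : φ' ≫ c₁ = φ' ≫ c₂ := line_ext (by
      simp only [Over.comp_left, Category.assoc, c₁, c₂, toLine_snd, ← he₂, h'])
    have := (hc.2 _ (φ' ≫ c₁) (by unfold GIT.IsInvariant; rw [← Category.assoc, hc.1, Category.assoc])).unique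
      rfl hh.symm
    have : χ₁ = χ₂ := by rw [← toLine_snd (W := Y') χ₁, ← toLine_snd (W := Y') χ₂]; exact congr($(this).left ≫ _)
    exact res_injective U (by rw [← hχ₁, ← hχ₂, this])
  · rintro _ ⟨s, rfl⟩
    change a.act.left.appLE _ _ _ (φ.left.app U s) = (snd G X).left.appLE _ _ _ (φ.left.app U s)
    rw [Scheme.Hom.app_eq_appLE, ← CommRingCat.comp_apply, ← CommRingCat.comp_apply, Scheme.Hom.appLE_comp_appLE,
      Scheme.Hom.appLE_comp_appLE]
    exact congr($(appLE_congr_hom (GIT.IsInvariant.left h.1.1) U _ _ _) s)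
  · intro f hf
    obtain ⟨χ, hχ⟩ := ev_surjective (res V f)
    let O := a.act.left ⁻¹ᵁ V ⊓ (snd G X).left ⁻¹ᵁ V
    have hinvO : a.act.left.resLE V O inf_le_left ≫ χ = (snd G X).left.resLE V O inf_le_right ≫ χ := by
      apply ev_injective
      rw [ev_comp, ev_comp, hχ]
      refine (res_natural _ _ _ _ f).trans (Eq.trans ?_ (res_natural _ _ _ _ f).symm)
      exact congrArg _ hf
    have e1 : a'.act.left ≫ pr.left = (G ◁ pr).left ≫ a.act.left := by
      rw [← Over.comp_left, ← Over.comp_left, EqInt.baseChange_fst]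
    have e2 : (snd G X').left ≫ pr.left = (G ◁ pr).left ≫ (snd G X).left := by
      rw [← Over.comp_left, ← Over.comp_left, whiskerLeft_snd]
    have hpV : ∀ x, pr.left x ∈ V := fun x => by rw [← he₁]; exact (e.hom x).2
    let j := IsOpenImmersion.lift O.ι (G ◁ pr).left (by
      rw [Scheme.Opens.range_ι]
      rintro _ ⟨t, rfl⟩
      exact ⟨show a.act.left ((G ◁ pr).left t) ∈ V by rw [← Scheme.Hom.comp_apply, ← e1]; exact hpV _,
        show (snd G X).left ((G ◁ pr).left t) ∈ V by rw [← Scheme.Hom.comp_apply, ← e2]; exact hpV _⟩)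
    have j1 : a'.act.left ≫ e.hom = j ≫ a.act.left.resLE V O inf_le_left := by
      rw [← cancel_mono V.ι, Category.assoc, he₁, e1, Category.assoc, Scheme.Hom.resLE_comp_ι,
        IsOpenImmersion.lift_fac_assoc]
    have j2 : (snd G X').left ≫ e.hom = j ≫ (snd G X).left.resLE V O inf_le_right := by
      rw [← cancel_mono V.ι, Category.assoc, he₁, e2, Category.assoc, Scheme.Hom.resLE_comp_ι,
        IsOpenImmersion.lift_fac_assoc]
    let ψ : X' ⟶ line S := toLine (e.hom ≫ χ)
    obtain ⟨c, hc', -⟩ := hc.2 _ ψ (line_ext (by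
      simp only [Over.comp_left, Category.assoc, ψ, toLine_snd, reassoc_of% j1, hinvO]
      exact ((Category.assoc _ _ _).symm.trans ((congrArg (· ≫ χ) j2.symm).trans (Category.assoc _ _ _)))))
    have hq : (φ.left ∣_ U) ≫ c.left ≫ pullback.snd _ _ = χ := by
      rw [← cancel_epi e.hom, reassoc_of% he₂]
      have := congr($(hc').left ≫ pullback.snd _ _)
      rwa [Over.comp_left, Category.assoc, toLine_snd] at this
    obtain ⟨s, hs⟩ := (ConcreteCategory.bijective_of_isIso (res U)).2 (ev (c.left ≫ pullback.snd _ _))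
    refine ⟨s, res_injective V ?_⟩
    rw [← happ, hs, ← ev_comp, hq, hχ]

theorem surjective_psiY_baseChange (hinv : GIT.IsInvariant a φ) (ho : Function.Surjective (GIT.PsiY a φ hinv).base)
    {X' Y' : Over S} (pr : X' ⟶ X) (φ' : X' ⟶ Y') (g : Y' ⟶ Y) (hpb : IsPullback pr φ' φ g)
    (a' : AlgGrp.Action G X') (heq : a'.act ≫ pr = (G ◁ pr) ≫ a.act) (hinv' : GIT.IsInvariant a' φ') :
    Function.Surjective (GIT.PsiY a' φ' hinv').base := by
  have hp := hpb.map (Over.forget S)
  let m := pullback.map φ'.left φ'.left φ.left φ.left pr.left pr.left g.left hp.w.symm hp.w.symm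
  have hm : IsPullback m (pullback.snd φ'.left φ'.left) (pullback.snd φ.left φ.left) pr.left := by
    refine IsPullback.of_right ?_ (pullback.lift_snd _ _ _) (IsPullback.of_hasPullback φ.left φ.left)
    have := (IsPullback.of_hasPullback φ'.left φ'.left).paste_horiz hp
    rw [show m ≫ pullback.fst φ.left φ.left = pullback.fst φ'.left φ'.left ≫ pr.left from pullback.lift_fst _ _ _]
    rw [show pr.left ≫ φ.left = φ'.left ≫ g.left from hp.w]
    exact this
  have hsq : IsPullback (G ◁ pr).left (GIT.PsiY a' φ' hinv') (GIT.PsiY a φ hinv) m := by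
    refine IsPullback.of_bot ?_ ?_ hm
    · rw [GIT.PsiY, pullback.lift_snd, GIT.PsiY, pullback.lift_snd]
      exact ((Blanchard.isPullback_whiskerLeft G pr).map (Over.forget S)).flip
    · apply pullback.hom_ext
      · simp only [GIT.PsiY, m, Category.assoc, pullback.lift_fst, pullback.lift_fst_assoc]
        rw [← Over.comp_left, ← Over.comp_left, heq]
      · simp only [GIT.PsiY, m, Category.assoc, pullback.lift_snd, pullback.lift_snd_assoc]
        rw [← Over.comp_left, ← Over.comp_left, whiskerLeft_snd]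
  have : Surjective (GIT.PsiY a φ hinv) := ⟨ho⟩
  exact (MorphismProperty.of_isPullback (P := @Surjective) hsq this).surj

theorem isGeomQuot_of_isUnivCatQuot (h : GIT.IsUnivCatQuot a φ) (hs : GIT.IsUnivSubmersive φ.left)
    (ho : Function.Surjective (GIT.PsiY a φ h.1.1).base) : GIT.IsGeomQuot a φ :=
  ⟨h.1.1, surjective_of_isUnivCatQuot h, ho, hs, sections_of_isUnivCatQuot h⟩

theorem isUnivGeomQuot_iff_of_isUnivCatQuot (h : GIT.IsUnivCatQuot a φ) :
    GIT.IsUnivGeomQuot a φ ↔
      GIT.IsUnivSubmersive φ.left ∧ Function.Surjective (GIT.PsiY a φ h.1.1).base := by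
  refine ⟨fun hg => ⟨hg.1.subm, hg.1.orbit⟩, fun ⟨hs, ho⟩ => ⟨isGeomQuot_of_isUnivCatQuot h hs ho, ?_⟩⟩
  intro X' Y' pr φ' g _ hpb a' heq hinv'
  have hu := isUnivCatQuot_baseChange h pr φ' g hpb a' heq hinv'
  exact isGeomQuot_of_isUnivCatQuot hu
    (MorphismProperty.of_isPullback (P := MorphismProperty.universally _) (hpb.map (Over.forget S)) hs)
    (surjective_psiY_baseChange h.1.1 ho pr φ' g hpb a' heq hinv')

end Groth.Agent.GITCat
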