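import Groth.Agent.QuotScheme.EffEpi
import Groth.Prelude.Def_W4bk4git07Quot

/-!
# Invariant morphisms descend along quotient-like morphisms (GIT, 0.1)
-/

set_option autoImplicit false
set_option backward.isDefEq.respectTransparency false

universe u

open CategoryTheory CategoryTheory.Limits MonoidalCategory CartesianMonoidalCategory AlgebraicGeometry TopologicalSpace

namespace Groth.Agent.GITCat

variable {S : Scheme.{u}} {G X Y : Over S} [GrpObj G] (a : AlgGrp.Action G X) {q : X ⟶ Y}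

theorem isCatQuot_of_local (hinv : GIT.IsInvariant a q) (hsurj : Function.Surjective q.left.base)
    (hsec : ∀ U : Y.left.Opens,
      Function.Injective (q.left.app U) ∧ Set.range (q.left.app U) = {f | GIT.IsInvSection a q U f})
    (hloc : ∀ (W : Scheme.{u}) (e : X.left ⟶ W), a.act.left ≫ e = (snd G X).left ≫ e →
      ∀ y : Y.left, ∃ V : W.Opens, IsAffineOpen V ∧ ∃ O : Y.left.Opens, y ∈ O ∧ q.left ⁻¹ᵁ O ≤ e ⁻¹ᵁ V) :
    GIT.IsCatQuot a q := by
  have hinj : ∀ U : Y.left.Opens, Function.Injective (q.left.app U).hom := fun U => (hsec U).1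
  have hepi : ∀ O : Y.left.Opens, Epi (q.left ∣_ O) := fun O ↦
    QuotScheme.epi_of_surjective_of_injective _ (QuotScheme.morphismRestrict_surjective q.left hsurj O)
      (QuotScheme.morphismRestrict_app_injective q.left hinj O)
  have hq : Epi q.left := QuotScheme.epi_of_surjective_of_injective q.left hsurj hinj
  refine ⟨hinv, fun Z ψ hψ => ?_⟩
  have he : a.act.left ≫ ψ.left = (snd G X).left ≫ ψ.left := hψ.left
  obtain ⟨χ, hχ⟩ : ∃ χ : Y.left ⟶ Z.left, q.left ≫ χ = ψ.left := by
    refine QuotScheme.exists_desc_of_local q.left hepi ψ.left fun y => ?_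
    obtain ⟨V, hV, O, hy, hO⟩ := hloc Z.left ψ.left he y
    obtain ⟨U, hU, hyU, hUO⟩ := QuotScheme.exists_affine_nbhd (Y := Y.left) (O := O) (y := y) hy
    have hUV : q.left ⁻¹ᵁ U ≤ ψ.left ⁻¹ᵁ V := fun t ht ↦ hO (hUO ht)
    have hmem : ∀ r, (ψ.left.appLE V (q.left ⁻¹ᵁ U) hUV).hom r ∈ (q.left.app U).hom.range := fun r ↦ by
      have hs : GIT.IsInvSection a q U ((ψ.left.appLE V (q.left ⁻¹ᵁ U) hUV).hom r) := by
        unfold GIT.IsInvSection
        rw [← CommRingCat.comp_apply, ← CommRingCat.comp_apply, Scheme.Hom.appLE_comp_appLE,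
          Scheme.Hom.appLE_comp_appLE]
        exact congr($(QuotScheme.appLE_congr_hom he V _ _ _) r)
      exact (hsec U).2.ge hs
    let e' := RingEquiv.ofBijective (q.left.app U).hom.rangeRestrict
      ⟨fun x y hxy ↦ hinj U (congr_arg Subtype.val hxy), RingHom.rangeRestrict_surjective _⟩
    let φ : Γ(Z.left, V) ⟶ Γ(Y.left, U) := CommRingCat.ofHom
      (e'.symm.toRingHom.comp ((ψ.left.appLE V (q.left ⁻¹ᵁ U) hUV).hom.codRestrict _ hmem))
    have hφ : φ ≫ q.left.app U = ψ.left.appLE V (q.left ⁻¹ᵁ U) hUV := by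
      ext r
      exact congr_arg Subtype.val (e'.apply_symm_apply _)
    refine ⟨U, U.toSpecΓ ≫ Spec.map φ ≫ hV.fromSpec, hyU, ?_⟩
    rw [← Scheme.Hom.resLE_eq_morphismRestrict, ← Scheme.Opens.toSpecΓ_SpecMap_appLE_assoc,
      ← Spec.map_comp_assoc, ← Scheme.Hom.app_eq_appLE, hφ,
      Scheme.Opens.toSpecΓ_SpecMap_appLE_assoc, ← hV.isoSpec_hom, hV.isoSpec_hom_fromSpec,
      Scheme.Hom.resLE_comp_ι]
  have hw : χ ≫ Z.hom = Y.hom := by
    rw [← cancel_epi q.left, ← Category.assoc, hχ, Over.w ψ, Over.w q]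
  exact ⟨Over.homMk χ hw, Over.OverMorphism.ext hχ, fun χ' hχ' => Over.OverMorphism.ext (by
    rw [← cancel_epi q.left, show q.left ≫ χ'.left = ψ.left from congrArg CommaMorphism.left hχ']
    exact hχ.symm)⟩

theorem isCatQuot_of_isGeomQuot (h : GIT.IsGeomQuot a q) : GIT.IsCatQuot a q := by
  refine isCatQuot_of_local a h.inv h.surj h.sections fun W e he y => ?_
  have hqm : Topology.IsQuotientMap q.left.base :=
    MorphismProperty.universally_le _ _ h.subm
  obtain ⟨x, rfl⟩ := h.surj y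
  obtain ⟨V, hV, hxV, -⟩ := QuotScheme.exists_affine_nbhd (Y := W) (O := ⊤) (y := e x) trivial
  have hsat : q.left.base ⁻¹' (q.left.base '' (e ⁻¹ᵁ V : Set X.left)) = (e ⁻¹ᵁ V : Set X.left) := by
    refine Set.Subset.antisymm ?_ (Set.subset_preimage_image _ _)
    rintro t ⟨s, hs, hst⟩
    obtain ⟨z, hz₁, hz₂⟩ := Scheme.Pullback.exists_preimage_pullback (f := q.left) (g := q.left) s t hst
    obtain ⟨w, hw⟩ := h.orbit z
    have h1 : a.act.left w = s := by
      rw [← hz₁, ← hw]
      exact congr($(pullback.lift_fst a.act.left (snd G X).left h.inv.left) w).symm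
    have h2 : (snd G X).left w = t := by
      rw [← hz₂, ← hw]
      exact congr($(pullback.lift_snd a.act.left (snd G X).left h.inv.left) w).symm
    change e t ∈ V
    rw [← h2, ← Scheme.Hom.comp_apply, ← he, Scheme.Hom.comp_apply, h1]
    exact hs
  exact ⟨V, hV, ⟨q.left.base '' (e ⁻¹ᵁ V : Set X.left),
    hqm.isOpen_preimage.mp (by rw [hsat]; exact (e ⁻¹ᵁ V).isOpen)⟩, ⟨x, hxV, rfl⟩, fun t ht => hsat.le ht⟩

theorem of_closed_images (hinv : GIT.IsInvariant a q)
    (hsec : ∀ U : Y.left.Opens,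
      Function.Injective (q.left.app U) ∧ Set.range (q.left.app U) = {f | GIT.IsInvSection a q U f})
    (hclosed : ∀ W : Set X.left, IsClosed W → a.act.left.base '' ((snd G X).left.base ⁻¹' W) ⊆ W →
      IsClosed (q.left.base '' W))
    (hinter : ∀ (J : Type u) (W : J → Set X.left),
      (∀ i, IsClosed (W i) ∧ a.act.left.base '' ((snd G X).left.base ⁻¹' W i) ⊆ W i) →
      q.left.base '' (⋂ i, W i) = ⋂ i, q.left.base '' W i) :
    GIT.IsCatQuot a q ∧ Topology.IsQuotientMap q.left.base := by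
  have hsurj : Function.Surjective q.left.base := by
    intro y
    have := hinter PEmpty.{u + 1} PEmpty.elim (fun i => i.elim)
    simp only [Set.iInter_of_empty, Set.image_univ] at this
    exact this.ge (Set.mem_univ y)
  have stab : ∀ {W : Type u} [TopologicalSpace W] (f : X.left → W), (∀ w, f (a.act.left w) = f ((snd G X).left w)) →
      ∀ C : Set W, a.act.left.base '' ((snd G X).left.base ⁻¹' (f ⁻¹' C)) ⊆ f ⁻¹' C := by
    rintro W _ f hf C _ ⟨w, hw, rfl⟩
    show f (a.act.left w) ∈ C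
    rw [hf]
    exact hw
  refine ⟨isCatQuot_of_local a hinv hsurj hsec fun W e he y => ?_, ?_⟩
  · let J := {V : W.Opens // IsAffineOpen V}
    let C : J → Set X.left := fun V => (e.base ⁻¹' (V.1 : Set W))ᶜ
    have hC : ∀ V, IsClosed (C V) ∧ a.act.left.base '' ((snd G X).left.base ⁻¹' C V) ⊆ C V := fun V =>
      ⟨(V.1.isOpen.preimage e.continuous).isClosed_compl,
        stab e.base (fun w => by
          show e (a.act.left w) = e ((snd G X).left w)
          rw [← Scheme.Hom.comp_apply, he, Scheme.Hom.comp_apply]) (V.1 : Set W)ᶜ⟩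
    have h0 : (⋂ V, C V) = ∅ := by
      ext x
      simp only [Set.mem_iInter, Set.mem_empty_iff_false, iff_false, not_forall]
      obtain ⟨V, hV, hxV, -⟩ := QuotScheme.exists_affine_nbhd (Y := W) (O := ⊤) (y := e x) trivial
      exact ⟨⟨V, hV⟩, fun h => h hxV⟩
    have h1 := hinter J C hC
    rw [h0, Set.image_empty] at h1
    have h2 : y ∉ ⋂ V, q.left.base '' C V := by rw [← h1]; exact Set.notMem_empty y
    simp only [Set.mem_iInter, not_forall] at h2
    obtain ⟨V, hV⟩ := h2
    refine ⟨V.1, V.2, ⟨(q.left.base '' C V)ᶜ, (hclosed _ (hC V).1 (hC V).2).isOpen_compl⟩, hV, fun t ht => ?_⟩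
    by_contra hne
    exact ht ⟨t, hne, rfl⟩
  · refine Topology.isQuotientMap_iff_isClosed.mpr ⟨hsurj, fun Cs => ⟨fun h => h.preimage q.left.continuous, fun h => ?_⟩⟩
    rw [← Set.image_preimage_eq Cs hsurj]
    refine hclosed _ h (stab q.left.base (fun w => ?_) Cs)
    show q.left (a.act.left w) = q.left ((snd G X).left w)
    rw [← Scheme.Hom.comp_apply, GIT.IsInvariant.left hinv, Scheme.Hom.comp_apply]

end Groth.Agent.GITCat
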